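import Groth.Agent.GeomNoTorus25.MultType
import Groth.Agent.S4130
import Groth.Agent.IsoTriv.SchemeLocal
import Groth.Agent.AlgGrpLib.TorusUnipotent
import Groth.Agent.AlgGrpLib.UnipotentPowers
import Groth.Agent.HopfQuot.UnipotentBaseChange
import Groth.Agent.UnipStruct.Basic
import Groth.Agent.CohDer1.TrigSep.Back

/-!
# Commutative affine groups without subtori have none after base change to an algebraic closure
-/

set_option autoImplicit false
set_option backward.isDefEq.respectTransparency.types false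
set_option linter.style.haveILetI false
universe u

open CategoryTheory CategoryTheory.Limits MonoidalCategory CartesianMonoidalCategory MonObj GrpObj AlgebraicGeometry
open TensorProduct WithConv Groth.Agent.HopfQuot Groth.Agent.IsoTriv

namespace Groth.Agent.GeomNoTorus25

variable {k : Type u} [Field k]

/-- A bialgebra with a trivialisation by a lattice gives a torus. -/
theorem isTorus_spec {B : Type u} [CommRing B] [HopfAlgebra k B] {Ω : Type u} [Field Ω] [Algebra k Ω] {r : ℕ}
    (e : Ω ⊗[k] B ≃ₐc[Ω] MonoidAlgebra Ω (Multiplicative (Fin r → ℤ))) : Red.IsTorus (spec (k := k) B) := by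
  let q : Spec (CommRingCat.of Ω) ⟶ Spec (CommRingCat.of k) := Spec.map (CommRingCat.ofHom (algebraMap k Ω))
  haveI : Flat q := (HasRingHomProperty.Spec_iff (P := @Flat)).2
    (RingHom.flat_algebraMap_iff.2 inferInstance)
  haveI : Surjective q := ⟨fun _ => ⟨IsLocalRing.closedPoint _, Subsingleton.elim (α := PrimeSpectrum k) _ _⟩⟩
  refine ⟨Spec (CommRingCat.of Ω), q, inferInstance, inferInstance, fun W hW => ⟨q ⁻¹ᵁ W, ?_, ?_⟩, fun s => ⟨⊤, trivial, r, ?_⟩⟩
  · exact ((hW.preimage q).isCompact)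
  · exact Set.image_preimage_eq _ q.surjective
  obtain ⟨E⟩ := SchemeSpec.nonempty_DS_of_triv B Ω e
  obtain ⟨c⟩ := SchemeLocal.nonempty_bc_comp q (⊤ : (Spec (CommRingCat.of Ω)).Opens).ι
    ((⊤ : (Spec (CommRingCat.of Ω)).Opens).ι ≫ q) rfl (spec (k := k) B)
  obtain ⟨E'⟩ := SchemeSpec.nonempty_bc_congr (⊤ : (Spec (CommRingCat.of Ω)).Opens).ι E
  obtain ⟨cD, hcD, -⟩ := SGA3cLib.CentralEq.exists_bc_DS (⊤ : (Spec (CommRingCat.of Ω)).Opens).ι
  haveI := hcD (Fin r → ℤ)
  exact ⟨c.symm ≪≫ E' ≪≫ Grp.mkIso' (cD (Fin r → ℤ))⟩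

/-- A trivialised torus of positive rank is not trivial. -/
theorem not_isIso_spec_hom {B : Type u} [CommRing B] [HopfAlgebra k B] {Ω : Type u} [Field Ω] [Algebra k Ω] {r : ℕ}
    (hr : 0 < r) (e : Ω ⊗[k] B ≃ₐc[Ω] MonoidAlgebra Ω (Multiplicative (Fin r → ℤ))) :
    ¬ IsIso (spec (k := k) B).hom := by
  intro h
  have hb : Function.Bijective (algebraMap k B) := by
    haveI : IsIso (Scheme.Spec.map (CommRingCat.ofHom (algebraMap k B)).op) := h
    haveI := isIso_of_reflects_iso (CommRingCat.ofHom (algebraMap k B)).op Scheme.Spec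
    haveI : IsIso (CommRingCat.ofHom (algebraMap k B)) := isIso_of_op _
    exact ConcreteCategory.bijective_of_isIso (CommRingCat.ofHom (algebraMap k B))
  have hs : Function.Surjective (algebraMap Ω (Ω ⊗[k] B)) := by
    intro z
    induction z using TensorProduct.induction_on with
    | zero => exact ⟨0, map_zero _⟩
    | add a b ha hb =>
      obtain ⟨a, rfl⟩ := ha
      obtain ⟨b, rfl⟩ := hb
      exact ⟨a + b, map_add _ _ _⟩
    | tmul w b =>
      obtain ⟨t, rfl⟩ := hb.2 b
      exact ⟨t • w, by rw [Algebra.algebraMap_eq_smul_one (A := B), ← TensorProduct.smul_tmul]; rfl⟩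
  classical
  let g : Multiplicative (Fin r → ℤ) := Multiplicative.ofAdd (Pi.single ⟨0, hr⟩ 1)
  obtain ⟨t, ht⟩ := hs (e.symm (MonoidAlgebra.single g 1))
  have h2 : algebraMap Ω (MonoidAlgebra Ω (Multiplicative (Fin r → ℤ))) t = MonoidAlgebra.single g 1 := by
    rw [← e.toAlgEquiv.commutes t]
    exact (congrArg e ht).trans (e.apply_symm_apply _)
  rw [MonoidAlgebra.coe_algebraMap, Function.comp_apply] at h2
  have h3 := congrArg MonoidAlgebra.coeff h2
  simp only [MonoidAlgebra.coeff_single] at h3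
  rcases (Finsupp.single_eq_single_iff _ _ _ _).1 h3 with ⟨h4, -⟩ | ⟨-, h4⟩
  · have := congrFun (Multiplicative.ofAdd.injective h4) ⟨0, hr⟩
    simp at this
  · exact one_ne_zero h4

/-- Points killed by the unipotent quotient are killed by a fixed integer. -/
theorem exists_exponent {U : Over (Spec (CommRingCat.of k))} [GrpObj U] [IsCommMonObj U] [IsAffine U.left]
    [LocallyOfFiniteType U.hom] (hU : Red.HasNoSubtorus k U) :
    ∃ (Q : Type u) (_ : CommRing Q) (_ : HopfAlgebra k Q) (q : U ⟶ spec (k := k) Q) (c : ℕ),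
      IsMonHom q ∧ HopfRep.IsUnipotent k Q ∧ Algebra.FiniteType k Q ∧ 0 < c ∧
      ∀ (X : Over (Spec (CommRingCat.of k))) [IsAffine X.left] (x : X ⟶ U), x ≫ q = 1 → x ^ c = 1 := by
  obtain ⟨A, _, _, e, he, hem⟩ := HopfQuot.exists_spec (k := k) U
  haveI := he
  haveI := hem
  haveI : Algebra.FiniteType k A := by
    haveI : IsIso e.left := inferInstanceAs (IsIso ((Over.forget _).map e))
    have h : LocallyOfFiniteType (spec (k := k) A).hom := by rw [← Over.w e]; infer_instance
    exact RingHom.finiteType_algebraMap.1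
      ((HasRingHomProperty.Spec_iff (P := @LocallyOfFiniteType) (φ := CommRingCat.ofHom (algebraMap k A))).mp h)
  haveI : IsCommMonObj (spec (k := k) A) := (isCommMonObj_iff_isMulCommutative _).2 fun T => ⟨⟨fun x y => by
    rw [← cancel_mono e, MonObj.mul_comp, MonObj.mul_comp, _root_.mul_comm]⟩⟩
  haveI := UnipStruct.isCocomm_of_comm (k := k) (A := A)
  obtain ⟨J, hJ, hMT, -, Q, _, _, φ, hφ, hJeq, hQ⟩ := Groth.Agent.S4130.result k A
  haveI := hJ
  haveI : Coalgebra.IsCocomm k (A ⧸ J) := UnipStruct.isCocomm_of_surjective (Bialgebra.Quotient.mkBialgHom (R := k) J)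
    Ideal.Quotient.mk_surjective
  haveI : Algebra.FiniteType k Q := CohDer1.TrigSep.finiteType_of_injective φ hφ
  rcases killed_or_torus k (A ⧸ J) hMT with ⟨c, hc, hkill⟩ | ⟨I, hI, Ω, _, _, r, hr, ⟨E⟩⟩
  swap
  · exfalso
    haveI := hI
    let π : A →ₐc[k] (A ⧸ J) ⧸ I :=
      (Bialgebra.Quotient.mkBialgHom (R := k) I).comp (Bialgebra.Quotient.mkBialgHom (R := k) J)
    have hπ : Function.Surjective π := (Ideal.Quotient.mk_surjective (I := I)).comp Ideal.Quotient.mk_surjective
    haveI : IsClosedImmersion (specHom π).left := IsClosedImmersion.spec_of_surjective _ hπ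
    haveI : Mono (specHom π) := Over.mono_of_mono_left _
    exact not_isIso_spec_hom hr E (hU (spec (k := k) ((A ⧸ J) ⧸ I)) (specHom π ≫ e) (isTorus_spec E))
  haveI : IsMonHom (CategoryTheory.inv e) := inferInstanceAs (IsMonHom (asIso e).inv)
  refine ⟨Q, inferInstance, inferInstance, CategoryTheory.inv e ≫ specHom φ, c, inferInstance, hQ, inferInstance, hc,
    fun X _ x hx => ?_⟩
  obtain ⟨R, _, _, ev, ε, hev⟩ := UnipStruct.exists_pt (k := k) (A := A) (T := X)
  let x' : X ⟶ spec (k := k) A := x ≫ CategoryTheory.inv e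
  have h1 : ∀ (y : X ⟶ spec (k := k) A) (b : Q),
      (y ≫ specHom φ).left.appTop ((Scheme.ΓSpecIso (CommRingCat.of Q)).inv b) = ε ((ev y).ofConv (φ b)) := by
    intro y b
    rw [← hev, Over.comp_left, Scheme.Hom.comp_appTop, CommRingCat.comp_apply, specHom_left]
    exact congrArg y.left.appTop
      ((ConcreteCategory.congr_hom (Scheme.ΓSpecIso_inv_naturality (CommRingCat.ofHom (φ : Q →+* A))) b).symm)
  have h2 : ∀ b : Q, (ev x').ofConv (φ b) = algebraMap k R (Coalgebra.counit b) := by
    intro b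
    apply ε.injective
    rw [← h1, show x' ≫ specHom φ = (1 : X ⟶ spec (k := k) A) ≫ specHom φ by
      rw [MonObj.one_comp, Category.assoc, hx], h1, map_one]
    show ε (algebraMap k R (Coalgebra.counit (φ b))) = _
    rw [CoalgHomClass.counit_comp_apply]
  have hkillJ : J ≤ RingHom.ker (ev x').ofConv.toRingHom := by
    rw [hJeq, Ideal.map_le_iff_le_comap]
    intro b hb
    show (ev x').ofConv (φ b) = 0
    rw [h2, show Coalgebra.counit (R := k) b = 0 from hb, map_zero]
  let a' : A ⧸ J →ₐ[k] R := Ideal.Quotient.liftₐ J (ev x').ofConv fun a ha => hkillJ ha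
  have ha' : ev x' = toConv (a'.comp (Bialgebra.Quotient.mkBialgHom (R := k) J : A →ₐ[k] A ⧸ J)) :=
    WithConv.ofConv_injective (AlgHom.ext fun a => rfl)
  have hpw : (toConv a') ^ c = 1 := by
    refine WithConv.ofConv_injective (AlgHom.ext fun b => ?_)
    have h3 : ∀ n, (toConv a' ^ n).ofConv = a'.comp (SGA3b.powConv k (A ⧸ J) n) := by
      intro n
      induction n with
      | zero =>
        simp only [SGA3b.powConv, pow_zero]
        exact AlgHom.ext fun z => (a'.commutes _).symm
      | succ n ih =>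
        simp only [SGA3b.powConv] at ih ⊢
        rw [pow_succ, pow_succ, AlgHom.comp_convMul_distrib, ← ih]
        rfl
    rw [h3, AlgHom.comp_apply, hkill, a'.commutes]
    rfl
  have h4 : ev x' ^ c = 1 := by
    rw [ha']
    have : ∀ n, toConv (a'.comp (Bialgebra.Quotient.mkBialgHom (R := k) J : A →ₐ[k] A ⧸ J)) ^ n =
        toConv ((toConv a' ^ n).ofConv.comp (Bialgebra.Quotient.mkBialgHom (R := k) J : A →ₐ[k] A ⧸ J)) := by
      intro n
      induction n with
      | zero =>
        refine WithConv.ofConv_injective (AlgHom.ext fun a => ?_)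
        exact congrArg (algebraMap k R) (CoalgHomClass.counit_comp_apply (Bialgebra.Quotient.mkBialgHom (R := k) J) a).symm
      | succ n ih =>
        rw [pow_succ, pow_succ, ih]
        exact WithConv.ofConv_injective (AlgHom.convMul_comp_bialgHom_distrib _ _ _).symm
    rw [this, hpw]
    refine WithConv.ofConv_injective (AlgHom.ext fun a => ?_)
    exact congrArg (algebraMap k R) (CoalgHomClass.counit_comp_apply (Bialgebra.Quotient.mkBialgHom (R := k) J) a)
  have h5 : x' ^ c = 1 := ev.injective (by rw [map_pow, h4, map_one])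
  rw [← cancel_mono (CategoryTheory.inv e), UnipStruct.comp_pow', h5, MonObj.one_comp]

theorem exists_large_prime (K : Type u) [Field K] (c : ℕ) : ∃ l : ℕ, l.Prime ∧ (l : K) ≠ 0 ∧ c < l := by
  obtain ⟨l, hl, hlp⟩ := Nat.exists_infinite_primes (c + ringChar K + 2)
  refine ⟨l, hlp, fun h => ?_, by omega⟩
  have hdvd : ringChar K ∣ l := (ringChar.spec K l).1 h
  rcases hlp.eq_one_or_self_of_dvd _ hdvd with h1 | h1
  · exact CharP.ringChar_ne_one h1
  · omega

/-- A commutative affine group without subtori has none over any algebraically closed extension. -/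
theorem hasNoSubtorus_bc (K : Type u) [Field K] [IsAlgClosed K] [Algebra k K]
    {U : Over (Spec (CommRingCat.of k))} [GrpObj U] [IsCommMonObj U] [IsAffine U.left] [LocallyOfFiniteType U.hom]
    (hU : Red.HasNoSubtorus k U) :
    Red.HasNoSubtorus K (Red.bc (Spec.map (CommRingCat.ofHom (algebraMap k K))) U) := by
  obtain ⟨Q, _, _, q, c, hq, hQ, hft, hc, hkill⟩ := exists_exponent hU
  haveI := hq
  haveI := hft
  intro T _ j _ _ hT
  let f : Spec (CommRingCat.of K) ⟶ Spec (CommRingCat.of k) := Spec.map (CommRingCat.ofHom (algebraMap k K))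
  haveI hTaff : IsAffine T.left := by
    obtain ⟨A, _, _, i, hi, -⟩ := AlgGrpLib.TorusUnip.exists_split_hopf T hT
    haveI := hi
    haveI : IsIso i.left := inferInstanceAs (IsIso ((Over.forget _).map i))
    haveI : IsAffine (HopfQuot.spec (k := K) A).left := inferInstanceAs (IsAffine (Spec (CommRingCat.of A)))
    exact .of_isIso (inv i.left)
  obtain ⟨eQ⟩ := SchemeSpec.nonempty_bc_spec (R := k) K Q
  let iQ : spec (k := K) (K ⊗[k] Q) ≅ (Over.pullback f).obj (spec (k := k) Q) := (Grp.forget _).mapIso eQ.symm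
  haveI : IsMonHom iQ.hom := eQ.symm.hom.hom.isMonHom_hom
  have h1 : j ≫ (Over.pullback f).map q = 1 :=
    AlgGrpLib.TorusUnip.hom_eq_one hT iQ.hom ((isUnipotent_iff_baseChange (K := K)).1 hQ) (j ≫ (Over.pullback f).map q)
  let adj := Over.mapPullbackAdj f
  let H : ((Over.map f).obj T ⟶ spec (k := k) Q) →* (T ⟶ (Over.pullback f).obj (spec (k := k) Q)) :=
    MonoidHom.mk' (fun z => adj.unit.app T ≫ (Over.pullback f).map z) fun z z' => by
      show _ ≫ (Over.pullback f).homMonoidHom (z * z') = _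
      rw [map_mul, MonObj.comp_mul]
      rfl
  let H' : ((Over.map f).obj T ⟶ U) →* (T ⟶ (Over.pullback f).obj U) :=
    MonoidHom.mk' (fun z => adj.unit.app T ≫ (Over.pullback f).map z) fun z z' => by
      show _ ≫ (Over.pullback f).homMonoidHom (z * z') = _
      rw [map_mul, MonObj.comp_mul]
      rfl
  let x : (Over.map f).obj T ⟶ U := (adj.homEquiv T U).symm j
  have hxj : H' x = j := by
    show adj.unit.app T ≫ (Over.pullback f).map x = j
    exact (adj.homEquiv_unit T U x).symm.trans ((adj.homEquiv T U).apply_symm_apply j)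
  have hxq : x ≫ q = 1 := by
    apply (adj.homEquiv T (spec (k := k) Q)).injective
    rw [adj.homEquiv_naturality_right, show (adj.homEquiv T U) x = j from (adj.homEquiv T U).apply_symm_apply j, h1,
      adj.homEquiv_unit]
    exact (map_one H).symm
  haveI : IsAffine ((Over.map f).obj T).left := hTaff
  have hx : x ^ c = 1 := hkill ((Over.map f).obj T) x hxq
  have hjc : j ^ c = 1 := by rw [← hxj, ← map_pow, hx, map_one]
  obtain ⟨l, hlp, hl, hcl⟩ := exists_large_prime K c
  haveI : NeZero (l : K) := ⟨hl⟩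
  refine AlgGrpLib.UnipPow.isIso_torus_of_torsion_trivial hT l hlp.one_lt fun Y y hy => ?_
  have h2 : y ^ c = 1 := by
    rw [← cancel_mono j, UnipStruct.comp_pow', MonObj.one_comp, ← Category.comp_id (y ≫ j), Category.assoc]
    rw [show (y ≫ j ≫ 𝟙 _) ^ c = y ≫ j ^ c by rw [Category.comp_id, MonObj.comp_pow], hjc, MonObj.comp_one]
  have hcop : Nat.Coprime c l :=
    (Nat.coprime_primes hlp hlp |> fun _ => (hlp.coprime_iff_not_dvd.2 fun hd => absurd (Nat.le_of_dvd hc hd) (by omega)).symm)
  have h3 : y ^ Nat.gcd c l = 1 := pow_gcd_eq_one.2 ⟨h2, hy⟩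
  rwa [hcop.gcd_eq_one, pow_one] at h3

end Groth.Agent.GeomNoTorus25
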