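import Groth.Agent.IsoTriv.TorsionQuot
import Groth.Agent.SGA3bLib.Torsion
import Groth.Agent.HopfLib.FaithfullyFlat
import Mathlib.FieldTheory.IsAlgClosed.AlgebraicClosure
import Mathlib.GroupTheory.FiniteAbelian.Basic

/-!
# A group of multiplicative type over a field is killed by an integer or contains a torus
-/

set_option autoImplicit false
set_option linter.style.haveILetI false
universe u

open TensorProduct WithConv

namespace Groth.Agent.GeomNoTorus25

/-- The free part of a finitely generated commutative group. -/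
theorem exists_free_part (M : Type u) [CommGroup M] (hM : Group.FG M) :
    ∃ (r : ℕ) (f : M →* Multiplicative (Fin r → ℤ)) (j : Multiplicative (Fin r → ℤ) →* M) (c : ℕ),
      0 < c ∧ Function.Surjective f ∧ Function.Injective j ∧ ∀ m, j (f m) = m ^ c := by
  classical
  have : AddGroup.FG (Additive M) := AddGroup.fg_iff_mul_fg.mpr (by
    show Group.FG (Multiplicative (Additive M))
    exact hM)
  obtain ⟨r, ι, hι, p, hp, e, ⟨g⟩⟩ := AddCommGroup.equiv_free_prod_directSum_zmod (Additive M)
  let c : ℕ := ∏ i, p i ^ e i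
  have hc : 0 < c := Finset.prod_pos fun i _ => pow_pos (hp i).pos _
  let fa : Additive M →+ (Fin r → ℤ) :=
    (Finsupp.coeFnAddHom).comp ((AddMonoidHom.fst _ _).comp g.toAddMonoidHom)
  let ja : (Fin r → ℤ) →+ Additive M :=
    c • (g.symm.toAddMonoidHom.comp ((AddMonoidHom.inl _ _).comp
      (Finsupp.linearEquivFunOnFinite ℤ ℤ (Fin r)).symm.toAddMonoidHom))
  have hD : ∀ d : DirectSum ι fun i => ZMod (p i ^ e i), c • d = 0 := fun d => by
    refine DFinsupp.ext fun i => ?_
    rw [DFinsupp.smul_apply, nsmul_eq_mul,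
      (ZMod.natCast_eq_zero_iff c _).mpr (Finset.dvd_prod_of_mem _ (Finset.mem_univ i)), zero_mul]
    rfl
  have hj : ∀ m, ja (fa m) = c • m := fun m => by
    apply g.injective
    have h1 : g (ja (fa m)) = c • ((g m).1, 0) := by
      simp only [ja, AddMonoidHom.smul_apply, AddMonoidHom.comp_apply, AddEquiv.coe_toAddMonoidHom, map_nsmul,
        AddEquiv.apply_symm_apply]
      congr 1
      exact Prod.ext ((Finsupp.linearEquivFunOnFinite ℤ ℤ (Fin r)).symm_apply_apply (g m).1) rfl
    rw [h1, map_nsmul]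
    refine Prod.ext (by simp) ?_
    simp [hD]
  have hinj : Function.Injective ja := fun a b hab => by
    have h := congrArg (fun x => (g x).1) hab
    simp only [ja, AddMonoidHom.smul_apply, AddMonoidHom.comp_apply, AddEquiv.coe_toAddMonoidHom, map_nsmul,
      AddEquiv.apply_symm_apply, Prod.smul_fst] at h
    have h2 : c • (Finsupp.linearEquivFunOnFinite ℤ ℤ (Fin r)).symm a =
        c • (Finsupp.linearEquivFunOnFinite ℤ ℤ (Fin r)).symm b := h
    exact (Finsupp.linearEquivFunOnFinite ℤ ℤ (Fin r)).symm.injective (smul_right_injective _ hc.ne' h2)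
  refine ⟨r, fa.toMultiplicativeRight, ja.toMultiplicativeLeft, c, hc, ?_, ?_, ?_⟩
  · intro a
    refine ⟨Additive.toMul (g.symm ((Finsupp.linearEquivFunOnFinite ℤ ℤ (Fin r)).symm (Multiplicative.toAdd a), 0)), ?_⟩
    apply Multiplicative.toAdd.injective
    show fa (g.symm _) = _
    simp [fa]
    rfl
  · intro a b hab
    exact Multiplicative.toAdd.injective (hinj (Additive.toMul.injective hab))
  · intro m
    exact congrArg Additive.toMul (hj (Additive.ofMul m))

open SGA3bLib in
/-- A group of multiplicative type over a field is killed by an integer or has a torus as a quotient subgroup. -/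
theorem killed_or_torus (k : Type u) [Field k] (B : Type u) [CommRing B] [HopfAlgebra k B] [Coalgebra.IsCocomm k B]
    [Algebra.FiniteType k B] (hB : SGA3b.IsMultTypeConst k B) :
    (∃ c : ℕ, 0 < c ∧ ∀ b, SGA3b.powConv k B c b = algebraMap k B (Coalgebra.counit b)) ∨
    ∃ (I : Ideal B) (_ : I.IsHopfIdeal k) (Ω : Type u) (_ : Field Ω) (_ : Algebra k Ω) (r : ℕ),
      0 < r ∧ Nonempty (Ω ⊗[k] (B ⧸ I) ≃ₐc[Ω] MonoidAlgebra Ω (Multiplicative (Fin r → ℤ))) := by
  classical
  obtain ⟨R', _, _, hff, M, _, ⟨e'⟩⟩ := hB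
  haveI := hff
  haveI : Nontrivial R' := (FaithfulSMul.algebraMap_injective k R').nontrivial
  obtain ⟨m, hm⟩ := Ideal.exists_maximal R'
  letI : Field (R' ⧸ m) := Ideal.Quotient.field m
  let Ω := R' ⧸ m
  -- trivialise over a field
  have hdiag : SGA3b.IsDiag Ω (Ω ⊗[k] B) := by
    have h1 := span_groupLike_bc Ω (span_groupLike_of_diag (C := R' ⊗[k] B) ⟨M, inferInstance, ⟨e'⟩⟩)
    exact isDiag_of_span_groupLike
      (span_groupLike_map (cancelBC (R := k) R' Ω B).toBialgHom (cancelBC (R := k) R' Ω B).surjective h1)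
  obtain ⟨N, _, ⟨e⟩⟩ := hdiag
  have hfg : Group.FG N := Group.fg_iff_monoid_fg.mpr
    (MonoidAlgebra.finiteType_iff_fg.mp ((inferInstance : Algebra.FiniteType Ω (Ω ⊗[k] B)).equiv e.toAlgEquiv))
  obtain ⟨r, f, j, c, hc, hf, hj, hjf⟩ := exists_free_part N hfg
  have hpow : ∀ x, e (SGA3b.powConv Ω (Ω ⊗[k] B) c x) =
      MonoidAlgebra.mapDomainBialgHom Ω j (MonoidAlgebra.mapDomainBialgHom Ω f (e x)) := by
    intro x
    have h1 := AlgHom.congr_fun (powConv_comp (e : Ω ⊗[k] B →ₐc[Ω] MonoidAlgebra Ω N) c) x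
    refine h1.symm.trans ?_
    show SGA3b.powConv Ω (MonoidAlgebra Ω N) c (e x) = _
    generalize e x = y
    induction y using MonoidAlgebra.induction_linear with
    | zero => simp
    | add a b ha hb => rw [map_add, map_add, map_add, ha, hb]
    | single n t =>
      rw [show MonoidAlgebra.single n t = t • MonoidAlgebra.single n (1 : Ω) by simp, map_smul, map_smul, map_smul,
        powConv_single]
      simp [hjf]
  rcases Nat.eq_zero_or_pos r with rfl | hr
  · left
    refine ⟨c, hc, fun b => ?_⟩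
    refine Algebra.TensorProduct.includeRight_injective (algebraMap k Ω).injective ?_
    show (1 : Ω) ⊗ₜ[k] SGA3b.powConv k B c b = (1 : Ω) ⊗ₜ[k] algebraMap k B _
    have h1 : SGA3b.powConv Ω (Ω ⊗[k] B) c ((1 : Ω) ⊗ₜ b) =
        algebraMap Ω (Ω ⊗[k] B) (Coalgebra.counit ((1 : Ω) ⊗ₜ[k] b)) := by
      refine e.injective (show e (SGA3b.powConv Ω (Ω ⊗[k] B) c ((1 : Ω) ⊗ₜ b)) = e (algebraMap Ω (Ω ⊗[k] B) _) from ?_)
      rw [hpow]
      refine Eq.trans ?_ (e.toAlgEquiv.commutes _).symm
      rw [← CoalgHomClass.counit_comp_apply (e : Ω ⊗[k] B →ₐc[Ω] MonoidAlgebra Ω N) ((1 : Ω) ⊗ₜ b)]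
      show _ = algebraMap Ω _ (Coalgebra.counit (e ((1 : Ω) ⊗ₜ b)))
      generalize e ((1 : Ω) ⊗ₜ b) = y
      induction y using MonoidAlgebra.induction_linear with
      | zero => simp
      | add a b ha hb => rw [map_add, map_add, map_add, map_add, ha, hb]
      | single n t =>
        have : f n = 1 := Subsingleton.elim _ _
        simp [this]
    rw [powConv_baseChange] at h1
    refine h1.trans ?_
    rw [TensorProduct.counit_tmul, Algebra.TensorProduct.algebraMap_apply, Algebra.algebraMap_eq_smul_one (A := B)]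
    simp [TensorProduct.smul_tmul', TensorProduct.tmul_smul]
  · right
    obtain ⟨φ, hφ⟩ := IsoTriv.exists_powBialg (R := k) (A := B) c
    let I : Ideal B := RingHom.ker (φ : B →+* B)
    haveI hI : I.IsHopfIdeal k := HopfLib.isHopfIdeal_ker φ
    refine ⟨I, hI, Ω, inferInstance, inferInstance, r, hr, ?_⟩
    let π : Ω ⊗[k] B →ₐc[Ω] Ω ⊗[k] (B ⧸ I) := bcHom Ω (Bialgebra.Quotient.mkBialgHom (R := k) I)
    let q : Ω ⊗[k] B →ₐc[Ω] MonoidAlgebra Ω (Multiplicative (Fin r → ℤ)) :=
      (MonoidAlgebra.mapDomainBialgHom Ω f).comp (e : Ω ⊗[k] B →ₐc[Ω] MonoidAlgebra Ω N)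
    have hπ : Function.Surjective π := bcHom_surjective Ω _ Ideal.Quotient.mk_surjective
    have hq : Function.Surjective q := by
      intro y
      induction y using MonoidAlgebra.induction_linear with
      | zero => exact ⟨0, map_zero _⟩
      | add a b ha hb =>
        obtain ⟨a, rfl⟩ := ha
        obtain ⟨b, rfl⟩ := hb
        exact ⟨a + b, map_add _ _ _⟩
      | single n t =>
        obtain ⟨n', rfl⟩ := hf n
        exact ⟨e.symm (MonoidAlgebra.single n' t), by simp [q]⟩
    have hjinj : Function.Injective (MonoidAlgebra.mapDomainBialgHom Ω j) := fun x y h =>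
      MonoidAlgebra.mapDomain_injective hj h
    refine nonempty_equiv_of_ker_eq π q hπ hq ?_
    ext x
    rw [RingHom.mem_ker, RingHom.mem_ker]
    show π x = 0 ↔ q x = 0
    have h1 : q x = 0 ↔ SGA3b.powConv Ω (Ω ⊗[k] B) c x = 0 := by
      constructor
      · intro h
        refine e.injective (show e (SGA3b.powConv Ω (Ω ⊗[k] B) c x) = e 0 from ?_)
        rw [hpow, map_zero]
        exact (congrArg (MonoidAlgebra.mapDomainBialgHom Ω j) h).trans (map_zero _)
      · intro h
        refine hjinj ?_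
        rw [map_zero]
        exact (hpow x).symm.trans ((congrArg e h).trans (map_zero _))
    rw [h1, powConv_baseChange]
    -- both kernels are the base change of `I`
    have hex : Function.Exact (I.restrictScalars k).subtype (SGA3b.powConv k B c).toLinearMap := by
      intro b
      refine ⟨fun h => ⟨⟨b, (hφ b).trans h⟩, rfl⟩, ?_⟩
      rintro ⟨⟨b', hb'⟩, rfl⟩
      exact (hφ b').symm.trans hb'
    have hex2 : Function.Exact (I.restrictScalars k).subtype (Ideal.Quotient.mkₐ k I).toLinearMap := by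
      intro b
      refine ⟨fun h => ⟨⟨b, Ideal.Quotient.eq_zero_iff_mem.1 h⟩, rfl⟩, ?_⟩
      rintro ⟨⟨b', hb'⟩, rfl⟩
      exact Ideal.Quotient.eq_zero_iff_mem.2 hb'
    exact ((Module.Flat.lTensor_exact Ω hex2) x).trans ((Module.Flat.lTensor_exact Ω hex) x).symm

end Groth.Agent.GeomNoTorus25
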